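import Cfsg.Agent.H99.SLThreeModel
import Cfsg.Agent.H99.HasPres

/-!
The presentation of `SL(3,q)` with the relation on the three-cycle set apart.
-/

set_option autoImplicit false

namespace Cfsg.Agent.H68.ShortSL

open Polynomial Matrix Cfsg.Agent.H99.ShortPres Cfsg.Agent.H99.SLThree
open Cfsg.Agent.H99.BoundedPres (hom_ext_closure)

universe w

variable {F : Type w} [Field F] [Fintype F] {p : ℕ} [Fact p.Prime] [Algebra (ZMod p) F]

local notation "SL3" => Matrix.SpecialLinearGroup (Fin 3) F

/-- A list containing the relation on the three-cycle, without it. -/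
theorem exists_without_cube (ω : Fˣ) (k : ℕ)
    (hgen : ∀ u : F, ∃ P : (ZMod p)[X], aeval ((ω : F)⁻¹) P = u)
    (l : List (FreeGroup (Fin 4) × FreeGroup (Fin 4))) (hl : l.length ≤ 14)
    (hcube : (FreeGroup.of (3 : Fin 4) * FreeGroup.of 3 * FreeGroup.of 3, 1) ∈ l)
    (hsat : ∀ r ∈ l, FreeGroup.lift ![xm (1 : F), dd 1 ω, tm, cm] r.1
      = FreeGroup.lift ![xm (1 : F), dd 1 ω, tm, cm] r.2)
    (hgood : ∀ (G : Type) [Group G] (π : FreeGroup (Fin 4) →* G), Function.Surjective π →
      (∀ r ∈ l, π r.1 = π r.2) →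
        Good (p := p) ω k (π (FreeGroup.of 0)) (π (FreeGroup.of 1)) (π (FreeGroup.of 2))
          (π (FreeGroup.of 3))) :
    ∃ (f : Fin 4 → SL3) (l' : List (FreeGroup (Fin 4) × FreeGroup (Fin 4))),
      l'.length ≤ 13 ∧ f 3 = cm ∧ Subgroup.closure (Set.range f) = ⊤ ∧
      (∀ r ∈ l', FreeGroup.lift f r.1 = FreeGroup.lift f r.2) ∧
      ∀ (G : Type) [Group G] (g : Fin 4 → G),
        (∀ r ∈ l', FreeGroup.lift g r.1 = FreeGroup.lift g r.2) → g 3 * g 3 * g 3 = 1 →
          ∃ φ : SL3 →* G, ∀ i, φ (f i) = g i := by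
  classical
  refine ⟨![xm (1 : F), dd 1 ω, tm, cm], l.erase _,
    by rw [List.length_erase_of_mem hcube]; omega, rfl, ?_,
    fun r hr => hsat r (List.mem_of_mem_erase hr), ?_⟩
  all_goals
    set f : Fin 4 → SL3 := ![xm (1 : F), dd 1 ω, tm, cm] with hf
    set R : Set (FreeGroup (Fin 4)) := ↑((l.map fun r => r.1 * r.2⁻¹).toFinset) with hR
    have hmem : ∀ r, r ∈ R ↔ ∃ a ∈ l, a.1 * a.2⁻¹ = r := by
      intro r
      simp [hR]
    have hrel : ∀ r ∈ R, FreeGroup.lift f r = 1 := by
      intro r hr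
      obtain ⟨a, ha, rfl⟩ := (hmem r).mp hr
      rw [map_mul, map_inv, hsat a ha, mul_inv_cancel]
    let x : PresentedGroup R := PresentedGroup.of 0
    let g : PresentedGroup R := PresentedGroup.of 1
    let t : PresentedGroup R := PresentedGroup.of 2
    let c : PresentedGroup R := PresentedGroup.of 3
    obtain ⟨X, D, hword, hfam⟩ := hgood (PresentedGroup R) (PresentedGroup.mk R)
      (PresentedGroup.mk_surjective R) (fun a ha => PresentedGroup.mk_eq_mk_of_mul_inv_mem
        ((hmem _).mpr ⟨a, ha, rfl⟩))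
    let φ := PresentedGroup.toGroup hrel
    have hx : φ x = xm 1 := PresentedGroup.toGroup.of hrel
    have hg : φ g = dd 1 ω := PresentedGroup.toGroup.of hrel
    have ht : φ t = tm := PresentedGroup.toGroup.of hrel
    have hc : φ c = cm := PresentedGroup.toGroup.of hrel
    have hX : ∀ u, φ (X u) = xm u := by
      intro u
      obtain ⟨P, rfl⟩ := hgen u
      rw [hword, map_wordP]
      show wordP (φ g) (φ x) P = _
      rw [hg, hx, wordP_xm]
    have hY : ∀ u, φ (rY X t u) = el 1 0 (by decide) u := by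
      intro u
      rw [rY, MulAut.conj_apply, map_mul, map_mul, map_inv, ht, hX, tm_xm, neg_neg]
    have hroot : ∀ i j (h : i ≠ j) u, φ (root X t c i j u) = el i j h u := by
      intro i j h u
      fin_cases i <;> fin_cases j
      · exact absurd rfl h
      · exact hX u
      · show φ (MulAut.conj (c * c) (rY X t u)) = _
        rw [MulAut.conj_apply, map_mul, map_mul, map_inv, map_mul, hc, hY]
        exact cm_cm_el 1 0 (by decide) u
      · exact hY u
      · exact absurd rfl h
      · show φ (MulAut.conj c (X u)) = _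
        rw [MulAut.conj_apply, map_mul, map_mul, map_inv, hc, hX]
        exact cm_el 0 1 (by decide) u
      · show φ (MulAut.conj (c * c) (X u)) = _
        rw [MulAut.conj_apply, map_mul, map_mul, map_inv, map_mul, hc, hX]
        exact cm_cm_el 0 1 (by decide) u
      · show φ (MulAut.conj c (rY X t u)) = _
        rw [MulAut.conj_apply, map_mul, map_mul, map_inv, hc, hY]
        exact cm_el 1 0 (by decide) u
      · exact absurd rfl h
    have hinj : Function.Injective φ :=
      Cfsg.Agent.H54.Presentation.StRels.injective 3 le_rfl (D.stRels hfam) D.closure_roots φ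
        fun i j h u => (congrArg Subtype.val (hroot i j h u)).trans rfl
    have hsurj : Function.Surjective φ := by
      rw [← MonoidHom.range_eq_top]
      exact Cfsg.Agent.Linear.eq_top_of_transvection_mem fun i j hij u => ⟨_, hroot i j hij u⟩
    let e := MulEquiv.ofBijective φ ⟨hinj, hsurj⟩
    have hof : ∀ i, e (PresentedGroup.of i) = f i := fun i => PresentedGroup.toGroup.of hrel
  · have h := congrArg (Subgroup.map e.toMonoidHom) (PresentedGroup.closure_range_of R)
    rw [MonoidHom.map_closure, ← Set.range_comp, Subgroup.map_top_of_surjective e.toMonoidHom e.surjective]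
      at h
    rw [← h]
    congr 2
    exact funext fun i => (hof i).symm
  · intro G _ gG hG hcb
    have hrG : ∀ r ∈ R, FreeGroup.lift gG r = 1 := by
      intro r hr
      obtain ⟨a, ha, rfl⟩ := (hmem r).mp hr
      rw [map_mul, map_inv, mul_inv_eq_one]
      by_cases hac : a = (FreeGroup.of (3 : Fin 4) * FreeGroup.of 3 * FreeGroup.of 3, 1)
      · subst hac
        simpa using hcb
      · exact hG a ((List.mem_erase_of_ne hac).2 ha)
    refine ⟨(PresentedGroup.toGroup hrG).comp e.symm.toMonoidHom, fun i => ?_⟩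
    show PresentedGroup.toGroup hrG (e.symm (f i)) = gG i
    rw [← hof i, MulEquiv.symm_apply_apply]
    exact PresentedGroup.toGroup.of hrG

/-- `SL(3,q)`: thirteen relations besides the one on the three-cycle. -/
theorem exists_three {F : Type w} [Field F] [Fintype F] :
    ∃ (f : Fin 4 → Matrix.SpecialLinearGroup (Fin 3) F)
      (l' : List (FreeGroup (Fin 4) × FreeGroup (Fin 4))),
      l'.length ≤ 13 ∧ f 3 = cm ∧ Subgroup.closure (Set.range f) = ⊤ ∧
      (∀ r ∈ l', FreeGroup.lift f r.1 = FreeGroup.lift f r.2) ∧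
      ∀ (G : Type) [Group G] (g : Fin 4 → G),
        (∀ r ∈ l', FreeGroup.lift g r.1 = FreeGroup.lift g r.2) → g 3 * g 3 * g 3 = 1 →
          ∃ φ : Matrix.SpecialLinearGroup (Fin 3) F →* G, ∀ i, φ (f i) = g i := by
  obtain ⟨p, hch⟩ := CharP.exists F
  haveI hpf : Fact p.Prime := ⟨CharP.char_is_prime F p⟩
  letI : Algebra (ZMod p) F := ZMod.algebra F p
  obtain ⟨d, -, hqd⟩ := FiniteField.card F p
  obtain ⟨ω, hω⟩ := IsCyclic.exists_generator (α := Fˣ)
  set q := Fintype.card F with hq
  have hq2 : 2 ≤ q := Fintype.one_lt_card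
  have hgen := fun u => gen_inv (p := p) ω hω u
  have hord : orderOf ω = q - 1 := by
    rw [orderOf_eq_card_of_forall_mem_zpowers hω, Nat.card_units, Nat.card_eq_fintype_card]
  set x := FreeGroup.of (0 : Fin 4) with hx
  set g := FreeGroup.of (1 : Fin 4) with hg
  set t := FreeGroup.of (2 : Fin 4) with ht
  set c := FreeGroup.of (3 : Fin 4) with hc
  have hfx : FreeGroup.lift ![xm (1 : F), dd 1 ω, tm, cm] x = xm 1 := by simp [hx]
  have hfg : FreeGroup.lift ![xm (1 : F), dd 1 ω, tm, cm] g = dd 1 ω := by simp [hg]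
  have hft : FreeGroup.lift ![xm (1 : F), dd 1 ω, tm, cm] t = tm := by simp [ht]
  have hfc : FreeGroup.lift ![xm (1 : F), dd 1 ω, tm, cm] c = cm := by simp [hc]
  have e1 := cnj_xm ω 1
  simp only [cnj, pow_one] at e1
  have hcomm : ∀ u : F, xm (1 : F) * xm u = xm u * xm 1 := fun u => by
    rw [xm, xm, ← el_add, ← el_add, add_comm]
  have hμ : wordP (dd 1 ω) (xm (1 : F)) (minpoly (ZMod p) ((ω : F)⁻¹)) = 1 := by
    rw [wordP_xm, minpoly.aeval, xm, el_zero]
  obtain ⟨tb, tA, tB, tC⟩ := sat_braid_tail (F := F)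
  by_cases h4 : q = 4
  · -- four elements
    have hp2 : p = 2 := by
      have h2 : 2 ∣ p ^ (d : ℕ) := by rw [← hqd, h4]; norm_num
      exact ((Nat.prime_dvd_prime_iff_eq Nat.prime_two hpf.out).mp
        (Nat.prime_two.dvd_of_dvd_pow h2)).symm
    have hd : (minpoly (ZMod p) ((ω : F)⁻¹)).natDegree ≤ 2 := by
      refine (minpoly.natDegree_le _).trans ?_
      have hcd := Module.card_eq_pow_finrank (K := ZMod p) (V := F)
      rw [ZMod.card, ← hq, h4] at hcd
      generalize Module.finrank (ZMod p) F = n at hcd ⊢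
      rw [hp2] at hcd
      exact ((Nat.pow_right_injective le_rfl).eq_iff.mp (hcd.symm.trans (by norm_num : 4 = 2 ^ 2))).le
    have h2F : (2 : F) = 0 := by
      have := CharP.cast_eq_zero F p
      rw [hp2] at this
      exact_mod_cast this
    have hw : (ω : F) ^ 3 = 1 := by
      rw [← Units.val_pow_eq_pow_val, show 3 = q - 1 by omega, ← hord, pow_orderOf_eq_one,
        Units.val_one]
    have hspan : SpanPowers F (ω : F) := by
      intro Q h0 hadd hpow u
      by_cases hu : u = 0
      · rw [hu]; exact h0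
      · obtain ⟨m, rfl⟩ := eq_pow_of_ne_zero ω hω hu
        exact hpow m
    obtain ⟨Pp, hPp⟩ := hgen (ω : F)
    obtain ⟨Pn, hPn⟩ := hgen (-(ω : F))
    refine exists_without_cube ω 0 hgen (lFour (minpoly (ZMod p) ((ω : F)⁻¹)) Pp Pn x g t c)
      (by simp [lFour, base]) (by simp [lFour, base, hc]) ?_ ?_
    · apply of_sat
      rw [map_lFour, hfx, hfg, hft, hfc]
      simp only [Sat, lFour, List.forall_mem_append, List.forall_mem_cons, List.not_mem_nil,
        IsEmpty.forall_iff, implies_true, and_true]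
      refine ⟨⟨⟨?_, by rw [e1]; exact hcomm _, hμ⟩, sat_base ω⟩, ?_, ?_, ?_, tC, ?_⟩
      · rw [xm, ← el_add, show (1 : F) + 1 = 0 by linear_combination h2F, el_zero]
      · rw [tb, tm_sq, show (-1 : Fˣ) = 1 from Units.ext (by push_cast; linear_combination -h2F),
          dd_one]
      · rw [wordP_xm, hPn]; exact model_A _
      · rw [wordP_xm, hPn]; exact model_B _
      · rw [wordP_xm, wordP_xm, hPn, hPp]; exact model_C _
    · intro G _ π hπ hr
      have hs := lift_sat π hr
      rw [map_lFour] at hs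
      exact good_four hp2 hgen hd hspan h2F hw hPp hPn hs (closure_gen4 π hπ)
  obtain ⟨k, hωk⟩ : ∃ k : ℕ, ω ^ k = -1 := by
    obtain ⟨m, hm⟩ := mem_powers_iff_mem_zpowers.mpr (hω (-1))
    exact ⟨m, hm⟩
  have hωk' : (ω : F) ^ k = -1 := by
    rw [← Units.val_pow_eq_pow_val, hωk, Units.val_neg, Units.val_one]
  have hz : SpanPowers F ((ω : F) ^ 3) :=
    spanPowers_of_gen (p := p) (gen_cube ω hω h4)
  have hk' : (cm⁻¹ * dd 1 ω * cm) ^ k = tm * (tm : Matrix.SpecialLinearGroup (Fin 3) F) := by
    rw [cm_dd_l, dd_pow, inv_pow, hωk, tm_sq, inv_neg, inv_one]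
  by_cases h5 : q ≤ 3
  · -- prime fields
    have hd : (minpoly (ZMod p) ((ω : F)⁻¹)).natDegree ≤ 2 := by
      refine (minpoly.natDegree_le _).trans ?_
      have hcd := Module.card_eq_pow_finrank (K := ZMod p) (V := F)
      rw [ZMod.card, ← hq] at hcd
      by_contra h3
      have : 2 ^ 3 ≤ p ^ Module.finrank (ZMod p) F :=
        (Nat.pow_le_pow_left hpf.out.two_le 3).trans
          (Nat.pow_le_pow_right hpf.out.pos (by omega))
      omega
    refine exists_without_cube ω k hgen (lSmall (minpoly (ZMod p) ((ω : F)⁻¹)) k x g t c)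
      (by simp [lSmall, base]) (by simp [lSmall, base, hc]) ?_ ?_
    · apply of_sat
      rw [map_lSmall, hfx, hfg, hft, hfc]
      simp only [Sat, lSmall, List.forall_mem_append, List.forall_mem_cons, List.not_mem_nil,
        IsEmpty.forall_iff, implies_true, and_true]
      exact ⟨⟨⟨xm_pow_char, by rw [e1]; exact hcomm _, hμ, hk'⟩, sat_base ω⟩, tb, tA, tB, tC⟩
    · intro G _ π hπ hr
      have hs := lift_sat π hr
      rw [map_lSmall] at hs
      exact good_small hgen hd hz hωk' hs (closure_gen4 π hπ)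
  · -- generic fields
    have hne : (1 : F) + (ω : F)⁻¹ ≠ 0 := by
      intro h0
      have h1 : (ω : F)⁻¹ = -1 := eq_neg_of_add_eq_zero_right h0
      have h2 : ω ^ 2 = 1 := Units.ext (by
        push_cast
        rw [← inv_inv (ω : F), h1]; norm_num)
      have := Nat.le_of_dvd two_pos (orderOf_dvd_of_pow_eq_one h2)
      rw [hord] at this
      omega
    obtain ⟨j, hj⟩ : ∃ j : ℕ, (1 : F) + (ω : F)⁻¹ = ((ω : F)⁻¹) ^ j := by
      obtain ⟨m, hm⟩ := eq_pow_of_ne_zero ω hω (inv_ne_zero hne)
      exact ⟨m, by rw [inv_pow, ← hm, inv_inv]⟩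
    refine exists_without_cube ω k hgen (lGen (minpoly (ZMod p) ((ω : F)⁻¹)) k j x g t c)
      (by simp [lGen, base]) (by simp [lGen, base, hc]) ?_ ?_
    · apply of_sat
      rw [map_lGen, hfx, hfg, hft, hfc]
      simp only [Sat, lGen, List.forall_mem_append, List.forall_mem_cons, List.not_mem_nil,
        IsEmpty.forall_iff, implies_true, and_true]
      refine ⟨⟨⟨xm_pow_char, by rw [e1]; exact hcomm _, ?_, by rw [hμ, mul_one]; exact hk'⟩,
        sat_base ω⟩, tb, tA, tB, tC⟩
      have ej := cnj_xm ω j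
      simp only [cnj] at ej
      rw [ej, e1, xm, xm, xm, ← el_add, hj]
    · intro G _ π hπ hr
      have hs := lift_sat π hr
      rw [map_lGen] at hs
      exact good_gen hgen hz hωk' hs (closure_gen4 π hπ)

end Cfsg.Agent.H68.ShortSL
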