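import Cfsg.Agent.H68.ShortSL.Pair
import Cfsg.Agent.H68.ShortSL.Three
import Cfsg.Agent.H68.ShortAlt.Main
import Cfsg.Agent.H99.SLBounded
import Cfsg.Agent.H99.CTBlock
import Cfsg.Agent.H68.SpPres.Bounds

/-!
Short presentations of `SL(n,q)`, `n ≥ 4`: `Alt n`, `SL(3,q)` without the relation on the
three-cycle, and at most four relations glueing them through a pair generating `SL(2,q)`.
-/

set_option autoImplicit false

namespace Cfsg.Agent.H68.ShortSL

open Equiv Equiv.Perm Matrix Cfsg.Agent.H99.BoundedPres Cfsg.Agent.H99.SLThree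


section Twist

/-- The exchange, as a permutation. -/
def flp (e : Bool) : Perm (Fin 2) := if e then swap 0 1 else 1

variable (k : ℕ)

/-- The pair and the rest. -/
def eP : Fin 2 ⊕ Fin (k + 2) ≃ Fin (k + 4) := finSumFinEquiv.trans (finCongr (by omega))

/-- The first two coordinates. -/
def q2 (i : Fin 2) : Fin (k + 4) := eP k (Sum.inl i)

theorem q2_zero : q2 k 0 = q4 k 0 := Fin.ext rfl

theorem q2_one : q2 k 1 = q4 k 1 := Fin.ext rfl

theorem q2_injective : Function.Injective (q2 k) := (eP k).injective.comp Sum.inl_injective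

/-- An even permutation from any permutation of the other coordinates. -/
def tw : Perm (Fin (k + 2)) →* alternatingGroup (Fin (k + 4)) where
  toFun σ := ⟨(eP k).permCongr (Perm.sumCongr (two (Perm.sign σ)) σ), by
    rw [mem_alternatingGroup, sign_permCongr, sign_sumCongr, sign_two, Int.units_mul_self]⟩
  map_one' := Subtype.ext (by
    show (eP k).permCongrHom _ = (1 : Perm (Fin (k + 4)))
    rw [map_one Perm.sign, show two 1 = 1 from rfl, sumCongr_one, map_one])
  map_mul' σ τ := Subtype.ext (by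
    show (eP k).permCongrHom _ = (eP k).permCongrHom _ * (eP k).permCongrHom _
    rw [← map_mul, map_mul Perm.sign, two_mul, sumCongr_mul])

theorem tw_inl (σ : Perm (Fin (k + 2))) (i : Fin 2) :
    (tw k σ : Perm (Fin (k + 4))) (q2 k i) = q2 k (two (Perm.sign σ) i) := by
  show (eP k).permCongr _ (eP k (Sum.inl i)) = _
  simp [Equiv.permCongr_apply, q2]

theorem tw_inr (σ : Perm (Fin (k + 2))) (j : Fin (k + 2)) :
    (tw k σ : Perm (Fin (k + 4))) (eP k (Sum.inr j)) = eP k (Sum.inr (σ j)) := by
  show (eP k).permCongr _ (eP k (Sum.inr j)) = _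
  simp [Equiv.permCongr_apply]

theorem exists_tw (s : alternatingGroup (Fin (k + 4))) (h0 : (s : Perm _) (q4 k 0) = q4 k 0)
    (h1 : (s : Perm _) (q4 k 1) = q4 k 1) :
    ∃ σ : Perm (Fin (k + 2)), Perm.sign σ = 1 ∧ tw k σ = s := by
  set c : Perm (Fin 2 ⊕ Fin (k + 2)) := (eP k).symm.permCongr (s : Perm (Fin (k + 4))) with hc
  have hfix : ∀ i : Fin 2, c (Sum.inl i) = Sum.inl i := by
    intro i
    have h : (s : Perm _) (q2 k i) = q2 k i := by
      fin_cases i
      · simpa [q2_zero] using h0
      · simpa [q2_one] using h1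
    show (eP k).symm ((s : Perm _) (eP k (Sum.inl i))) = _
    rw [Equiv.symm_apply_eq]
    exact h
  obtain ⟨⟨a, b⟩, hab⟩ := mem_sumCongrHom_range_of_perm_mapsTo_inl (σ := c)
    (by rintro _ ⟨i, rfl⟩; exact ⟨i, (hfix i).symm⟩)
  have hab' : Perm.sumCongr a b = c := hab
  have ha : a = 1 := Equiv.ext fun i => Sum.inl_injective (α := Fin 2) (β := Fin (k + 2)) (by
    have := hfix i
    rw [← hab'] at this
    simpa using this)
  have hb : Perm.sign b = 1 := by
    have h := congrArg Perm.sign hab'
    rw [sign_sumCongr, ha, map_one, one_mul, hc, sign_permCongr] at h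
    rw [h]
    exact mem_alternatingGroup.mp s.2
  refine ⟨b, hb, Subtype.ext ?_⟩
  show (eP k).permCongr (Perm.sumCongr (two (Perm.sign b)) b) = _
  rw [hb, show two 1 = 1 from rfl, ← ha, hab', hc]
  ext x
  simp [Equiv.permCongr_apply]

theorem viaA_double {α β : Type*} [Fintype α] [DecidableEq α] [Fintype β] [DecidableEq β]
    (e : α ↪ β) (g : alternatingGroup α) {a b c d : α}
    (hg : (g : Perm α) = swap a b * swap c d) :
    (viaA e g : Perm β) = swap (e a) (e b) * swap (e c) (e d) := by
  refine Equiv.ext fun x => ?_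
  by_cases hx : x ∈ Set.range e
  · obtain ⟨y, rfl⟩ := hx
    rw [viaA_apply, hg, Perm.mul_apply, Perm.mul_apply, e.injective.swap_apply,
      e.injective.swap_apply]
  · have hne : ∀ y, x ≠ e y := fun y h => hx ⟨y, h.symm⟩
    rw [viaA_fix _ _ hx, Perm.mul_apply, swap_apply_of_ne_of_ne (hne c) (hne d),
      swap_apply_of_ne_of_ne (hne a) (hne b)]

theorem q4_inr (x : Fin 2) : q4 k (Fin.natAdd 2 x) = eP k (Sum.inr (x.castLE (by omega))) :=
  Fin.ext rfl

theorem tw_swap : tw k (swap 0 1) = viaA (q4 k) d4 := by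
  refine Subtype.ext ?_
  rw [viaA_double (q4 k) d4 (a := 0) (b := 1) (c := 2) (d := 3) rfl]
  refine Equiv.ext fun x => ?_
  obtain ⟨y, rfl⟩ := (eP k).surjective x
  have e0 : q4 k 0 = eP k (Sum.inl 0) := Fin.ext rfl
  have e1 : q4 k 1 = eP k (Sum.inl 1) := Fin.ext rfl
  have e2 : q4 k 2 = eP k (Sum.inr 0) := Fin.ext rfl
  have e3 : q4 k 3 = eP k (Sum.inr 1) := Fin.ext rfl
  rw [Perm.mul_apply, e0, e1, e2, e3, (eP k).injective.swap_apply, (eP k).injective.swap_apply]
  show (eP k).permCongr _ (eP k y) = _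
  rw [Equiv.permCongr_apply, Equiv.symm_apply_apply, sign_swap (by simp),
    show two (-1) = swap 0 1 from rfl]
  rcases y with i | j
  · fin_cases i <;> simp [swap_apply_of_ne_of_ne]
  · rcases eq_or_ne j 0 with rfl | hj0
    · simp [swap_apply_of_ne_of_ne]
    rcases eq_or_ne j 1 with rfl | hj1
    · simp [swap_apply_of_ne_of_ne]
    simp [swap_apply_of_ne_of_ne, hj0, hj1]

theorem tw_conj_tau (hk : 2 ≤ k) :
    tw k (swap ⟨2, by omega⟩ ⟨3, by omega⟩) * viaA (q4 k) tau4 *
      (tw k (swap ⟨2, by omega⟩ ⟨3, by omega⟩))⁻¹ = viaA (q4 k) tau4 * viaA (q4 k) d4 := by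
  set σ : Perm (Fin (k + 2)) := swap ⟨2, by omega⟩ ⟨3, by omega⟩ with hσ
  have hs : Perm.sign σ = -1 := sign_swap (by simp)
  rw [← map_mul (viaA (q4 k))]
  refine Subtype.ext ?_
  rw [Subgroup.coe_mul, Subgroup.coe_mul, Subgroup.coe_inv,
    viaA_double (q4 k) tau4 (a := 0) (b := 2) (c := 1) (d := 3) rfl,
    viaA_double (q4 k) (tau4 * d4) (a := 1) (b := 2) (c := 0) (d := 3) (by decide)]
  set u := (tw k σ : Perm (Fin (k + 4)))
  rw [show u * (swap (q4 k 0) (q4 k 2) * swap (q4 k 1) (q4 k 3)) * u⁻¹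
    = u * swap (q4 k 0) (q4 k 2) * u⁻¹ * (u * swap (q4 k 1) (q4 k 3) * u⁻¹) by group,
    ← swap_apply_apply, ← swap_apply_apply]
  have e0 : u (q4 k 0) = q4 k 1 := by
    have := tw_inl k σ 0
    rw [hs, show two (-1) 0 = 1 from rfl, q2_zero, q2_one] at this
    exact this
  have e1 : u (q4 k 1) = q4 k 0 := by
    have := tw_inl k σ 1
    rw [hs, show two (-1) 1 = 0 from rfl, q2_zero, q2_one] at this
    exact this
  have e2 : ∀ x : Fin 2, u (q4 k (Fin.natAdd 2 x)) = q4 k (Fin.natAdd 2 x) := fun x => by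
    rw [q4_inr, tw_inr, hσ, swap_apply_of_ne_of_ne]
    all_goals
      intro h
      have := congrArg Fin.val h
      simp at this
      omega
  rw [e0, e1, show u (q4 k 2) = q4 k 2 from e2 0, show u (q4 k 3) = q4 k 3 from e2 1]

/-- The symmetric group from a transposition and an even element. -/
theorem exists_perm_gens : ∃ w : Perm (Fin (k + 2)), Perm.sign w = 1 ∧
    Subgroup.closure ({swap 0 1, w} : Set (Perm (Fin (k + 2)))) = ⊤ := by
  rcases Nat.even_or_odd k with hk | hk
  · refine ⟨decomposeFin.symm (0, finRotate (k + 1)), ?_, ?_⟩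
    · rw [decomposeFin.symm_sign, if_pos rfl, one_mul, sign_finRotate]
      simp [hk.neg_one_pow]
    set w := decomposeFin.symm ((0 : Fin (k + 2)), finRotate (k + 1)) with hw
    set H := Subgroup.closure ({swap 0 1, w} : Set (Perm (Fin (k + 2)))) with hH
    have h0 : ∀ x : Fin (k + 1), swap 0 x.succ ∈ H := by
      intro x
      induction x using Fin.induction with
      | zero => exact Subgroup.subset_closure (by simp)
      | succ x ih =>
        have hwm : w ∈ H := Subgroup.subset_closure (by simp)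
        have := H.mul_mem (H.mul_mem hwm ih) (H.inv_mem hwm)
        rw [← swap_apply_apply, hw, decomposeFin_symm_apply_zero, decomposeFin_symm_apply_succ,
          swap_self, Equiv.refl_apply, finRotate_apply, Fin.coeSucc_eq_succ] at this
        exact this
    have h0' : ∀ a : Fin (k + 2), a ≠ 0 → swap 0 a ∈ H := fun a ha => by
      obtain ⟨x, rfl⟩ := Fin.exists_succ_eq.2 ha
      exact h0 x
    rw [eq_top_iff, ← closure_isSwap, Subgroup.closure_le]
    rintro _ ⟨a, b, hab, rfl⟩
    rcases eq_or_ne a 0 with rfl | ha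
    · exact h0' b hab.symm
    rcases eq_or_ne b 0 with rfl | hb
    · rw [Equiv.swap_comm]; exact h0' a ha
    have := H.mul_mem (H.mul_mem (h0' a ha) (h0' b hb)) (H.inv_mem (h0' a ha))
    rw [← swap_apply_apply, swap_apply_left, swap_apply_of_ne_of_ne hb hab.symm] at this
    exact this
  · refine ⟨finRotate (k + 2), ?_, ?_⟩
    · rw [sign_finRotate]
      exact Even.neg_one_pow (by
        obtain ⟨j, rfl⟩ := hk
        exact ⟨j + 1, by omega⟩)
    have h := closure_cycle_adjacent_swap (isCycle_finRotate (n := k)) support_finRotate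
      (0 : Fin (k + 2))
    rw [finRotate_apply, zero_add, Set.pair_comm] at h
    exact h

end Twist

section Model

variable {F : Type*} [Field F]

local notation "SL2" => Matrix.SpecialLinearGroup (Fin 2) F

/-- `SL(2)` in `SL(3)`. -/
noncomputable def blk : SL2 →* Matrix.SpecialLinearGroup (Fin 3) F := Cfsg.Agent.H99.CT.B01

/-- The identity or the exchange. -/
def fl : Bool → SL2 →* SL2
  | false => MonoidHom.id _
  | true => sw

theorem blk_transvection {i j : Fin 2} (h : i ≠ j) (u : F) :
    blk (Matrix.SpecialLinearGroup.transvection h u)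
      = el (Cfsg.Agent.H99.CT.e01 i) (Cfsg.Agent.H99.CT.e01 j)
          (Cfsg.Agent.H99.CT.e01.injective.ne h) u := by
  rw [blk, Cfsg.Agent.H99.CT.B01, Cfsg.Agent.H99.CT.emb_transvection]
  rfl

theorem blk_up (u : F) : blk (up u) = xm u := by
  rw [← transvection_up (by decide) u, blk_transvection]
  rfl

theorem blk_lo (u : F) : blk (lo u) = el 1 0 (by decide) u := by
  rw [← transvection_lo (by decide) u, blk_transvection]
  rfl

theorem blk_dg (a : Fˣ) : blk (dg a) = dd a a⁻¹ := by
  refine Subtype.ext ?_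
  rw [blk, Cfsg.Agent.H99.CT.B01_coe]
  show _ = (!![(a : F), 0, 0; 0, ((a⁻¹ : Fˣ) : F), 0; 0, 0, (((a * a⁻¹)⁻¹ : Fˣ) : F)])
  simp [dg]

theorem sw_transvection {i j : Fin 2} (h : i ≠ j) (u : F) :
    sw (Matrix.SpecialLinearGroup.transvection h u)
      = Matrix.SpecialLinearGroup.transvection ((flp true).injective.ne h) u := by
  fin_cases i <;> fin_cases j <;> first
    | exact absurd rfl h
    | (rw [transvection_up, sw_up]; exact (transvection_lo _ u).symm)
    | (rw [transvection_lo, ← sw_up, sw_sw]; exact (transvection_up _ u).symm)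

variable (k : ℕ)

theorem emb_blk {i j : Fin 2} (h : i ≠ j) (u : F) :
    emb k (blk (Matrix.SpecialLinearGroup.transvection h u))
      = tv ((q2_injective k).ne h) u := by
  rw [blk_transvection, emb_el]
  congr 1 <;> fin_cases i <;> fin_cases j <;> first
    | exact absurd rfl h
    | exact Fin.ext rfl

theorem muA_blk (s : alternatingGroup (Fin (k + 4))) (e : Bool)
    (hs : ∀ i, (s : Perm _) (q2 k i) = q2 k (flp e i)) (y : SL2) :
    muA s * emb k (blk y) * (muA s)⁻¹ = emb k (blk (fl e y)) := by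
  have h : (MulAut.conj (muA s : Matrix.SpecialLinearGroup (Fin (k + 4)) F)).toMonoidHom.comp
      ((emb k).comp blk) = ((emb k).comp blk).comp (fl e) :=
    Cfsg.Agent.H99.CT.hom_ext_transvection fun i j hij t => by
      show muA s * emb k (blk _) * (muA s)⁻¹ = _
      rw [emb_blk, muA_tv, MonoidHom.comp_apply, MonoidHom.comp_apply]
      cases e
      · rw [fl, MonoidHom.id_apply, emb_blk]
        congr 1 <;> rw [hs] <;> rfl
      · rw [fl, sw_transvection, emb_blk]
        congr 1 <;> rw [hs]
  exact DFunLike.congr_fun h y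

theorem blk_disjoint (a b : SL2) : Commute (emb k (blk a))
    (muA (viaA (q4 k) tau4) * emb k (blk b) * (muA (viaA (q4 k) tau4))⁻¹) := by
  set T : Matrix.SpecialLinearGroup (Fin (k + 4)) F := muA (viaA (q4 k) tau4) with hT
  refine Cfsg.Agent.Linear.transvection_induction (P := fun a => Commute (emb k (blk a)) _)
    ?_ ?_ ?_ a
  · simp
  · intro i j hij t
    refine Cfsg.Agent.Linear.transvection_induction
      (P := fun b => Commute _ (T * emb k (blk b) * T⁻¹)) ?_ ?_ ?_ b
    · simp
    · intro i' j' hij' t'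
      rw [emb_blk, emb_blk, hT, muA_tv]
      have hne : ∀ x x' : Fin 2, q2 k x ≠
          (viaA (q4 k) tau4 : Perm (Fin (k + 4))) (q2 k x') := by
        intro x x' h
        fin_cases x <;> fin_cases x' <;>
          simp only [q2_zero, q2_one, Fin.zero_eta, Fin.mk_one, viaA_apply] at h <;>
          exact absurd ((q4 k).injective h) (by decide)
      exact tv_comm _ _ (hne i j') (hne j i') t t'
    · intro A B hA hB
      rw [map_mul, map_mul, conj_mul.symm]
      exact hA.mul_right hB
  · intro A B hA hB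
    rw [map_mul, map_mul]
    exact hA.mul_left hB

end Model

section Derive

variable {k : ℕ} {G : Type*} [Group G]

/-- What the relations on the pair must give. -/
structure Derived (π : alternatingGroup (Fin (k + 4)) →* G) (Q : Bool → G) : Prop where
  far : ∀ s : alternatingGroup (Fin (k + 4)), (s : Perm _) (q4 k 0) = q4 k 0 →
    (s : Perm _) (q4 k 1) = q4 k 1 → ∀ b, π s * Q b * (π s)⁻¹ = Q b
  flip : ∀ b, π (viaA (q4 k) d4) * Q b * (π (viaA (q4 k) d4))⁻¹ = Q !b
  quad : ∀ a b, Commute (Q a) (π (viaA (q4 k) tau4) * Q b * (π (viaA (q4 k) tau4))⁻¹)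

theorem stab_all (π : alternatingGroup (Fin (k + 4)) →* G) (Q : Bool → G)
    {w : Perm (Fin (k + 2))} (hws : Perm.sign w = 1)
    (hgen : Subgroup.closure ({swap 0 1, w} : Set (Perm (Fin (k + 2)))) = ⊤)
    (hd : π (viaA (q4 k) d4) * Q false * (π (viaA (q4 k) d4))⁻¹ = Q true)
    (hw : ∀ b, π (tw k w) * Q b * (π (tw k w))⁻¹ = Q b) (σ : Perm (Fin (k + 2))) (b : Bool) :
    π (tw k σ) * Q b * (π (tw k σ))⁻¹ = Q (if Perm.sign σ = 1 then b else !b) := by
  have hmem : σ ∈ Subgroup.closure ({swap 0 1, w} : Set (Perm (Fin (k + 2)))) := by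
    rw [hgen]; trivial
  induction hmem using Subgroup.closure_induction generalizing b with
  | mem x hx =>
    rcases hx with rfl | rfl
    · rw [sign_swap (by simp), if_neg (by decide), tw_swap]
      cases b
      · exact hd
      · have hdd : π (viaA (q4 k) d4) * π (viaA (q4 k) d4) = 1 := by
          rw [← map_mul, ← map_mul,
            show d4 * d4 = (1 : alternatingGroup (Fin 4)) from Subtype.ext (by decide), map_one,
            map_one]
        rw [← hd, inv_eq_of_mul_eq_one_right hdd]
        calc π (viaA (q4 k) d4) * (π (viaA (q4 k) d4) * Q false * π (viaA (q4 k) d4)) *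
              π (viaA (q4 k) d4)
            = (π (viaA (q4 k) d4) * π (viaA (q4 k) d4)) * Q false *
              (π (viaA (q4 k) d4) * π (viaA (q4 k) d4)) := by simp only [mul_assoc]
          _ = _ := by rw [hdd, one_mul, mul_one]; rfl
    · rw [hws, if_pos rfl]; exact hw b
  | one => simp
  | mul x y _ _ hx hy =>
    rw [map_mul, map_mul, map_mul Perm.sign, _root_.mul_inv_rev,
      show π (tw k x) * π (tw k y) * Q b * ((π (tw k y))⁻¹ * (π (tw k x))⁻¹)
        = π (tw k x) * (π (tw k y) * Q b * (π (tw k y))⁻¹) * (π (tw k x))⁻¹ by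
      simp only [mul_assoc], hy, hx]
    rcases Int.units_eq_one_or (Perm.sign x) with h | h <;>
      rcases Int.units_eq_one_or (Perm.sign y) with h' | h' <;> cases b <;> simp [h, h']
  | inv x _ hx =>
    rw [map_inv, map_inv, inv_inv, map_inv Perm.sign, Int.units_inv_eq_self]
    have := hx (if Perm.sign x = 1 then b else !b)
    have e : (if Perm.sign x = 1 then (if Perm.sign x = 1 then b else !b)
        else !(if Perm.sign x = 1 then b else !b)) = b := by
      by_cases h : Perm.sign x = 1 <;> simp [h]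
    rw [e] at this
    rw [← this]
    group

theorem derived_of_stab (π : alternatingGroup (Fin (k + 4)) →* G) (Q : Bool → G)
    (hst : ∀ (σ : Perm (Fin (k + 2))) (b : Bool),
      π (tw k σ) * Q b * (π (tw k σ))⁻¹ = Q (if Perm.sign σ = 1 then b else !b))
    (hquad : ∀ a b, Commute (Q a) (π (viaA (q4 k) tau4) * Q b * (π (viaA (q4 k) tau4))⁻¹)) :
    Derived π Q where
  far s h0 h1 b := by
    obtain ⟨σ, hσ, rfl⟩ := exists_tw k s h0 h1
    rw [hst, if_pos hσ]
  flip b := by
    rw [← tw_swap, hst, sign_swap (by simp), if_neg (by decide)]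
  quad := hquad

end Derive

section Core

variable {F : Type*} [Field F]

theorem commute_all {G : Type*} [Group G] (f : Matrix.SpecialLinearGroup (Fin 2) F →* G)
    {P : Matrix.SpecialLinearGroup (Fin 2) F}
    (hP : Subgroup.closure ({P, sw P} : Set (Matrix.SpecialLinearGroup (Fin 2) F)) = ⊤) {z : G}
    (h : ∀ b, Commute z (f (fl b P))) (y : Matrix.SpecialLinearGroup (Fin 2) F) :
    Commute z (f y) := by
  have hy : y ∈ Subgroup.closure ({P, sw P} : Set (Matrix.SpecialLinearGroup (Fin 2) F)) := by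
    rw [hP]; trivial
  induction hy using Subgroup.closure_induction with
  | mem x hx =>
    rcases hx with rfl | rfl
    · exact h false
    · exact h true
  | one => rw [map_one]; exact Commute.one_right z
  | mul x y _ _ hx hy => rw [map_mul]; exact hx.mul_right hy
  | inv x _ hx => rw [map_inv]; exact hx.inv_right

theorem glue_of_derived {k : ℕ} {G : Type*} [Group G]
    (ρ : Matrix.SpecialLinearGroup (Fin 3) F →* G) (π : alternatingGroup (Fin (k + 4)) →* G)
    (ω : Fˣ) (hcyc : π (c0 k) = ρ cm) {P : Matrix.SpecialLinearGroup (Fin 2) F}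
    (hP : Subgroup.closure ({P, sw P} : Set (Matrix.SpecialLinearGroup (Fin 2) F)) = ⊤)
    (D : Derived π fun b => ρ (blk (fl b P))) : GlueRels ρ π ω := by
  have hflip : ∀ y, π (viaA (q4 k) d4) * ρ (blk y) * (π (viaA (q4 k) d4))⁻¹
      = ρ (blk (sw y)) := by
    have h : (MulAut.conj (π (viaA (q4 k) d4))).toMonoidHom.comp (ρ.comp blk)
        = (ρ.comp blk).comp sw := MonoidHom.eq_of_eqOn_dense hP (by
      rintro _ (rfl | rfl)
      · exact D.flip false
      · show _ = ρ (blk (sw (sw P)))
        rw [sw_sw]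
        exact D.flip true)
    exact fun y => DFunLike.congr_fun h y
  have hfar : ∀ s : alternatingGroup (Fin (k + 4)), (s : Perm _) (q4 k 0) = q4 k 0 →
      (s : Perm _) (q4 k 1) = q4 k 1 → ∀ y, Commute (π s) (ρ (blk y)) := fun s h0 h1 =>
    commute_all (ρ.comp blk) hP fun b => mul_inv_eq_iff_eq_mul.mp (D.far s h0 h1 b)
  set T := π (viaA (q4 k) tau4) with hT
  have hquad : ∀ x y, Commute (ρ (blk x)) (T * ρ (blk y) * T⁻¹) := by
    intro x y
    refine (commute_all (ρ.comp blk) hP (fun a => Commute.symm ?_) x).symm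
    exact commute_all ((MulAut.conj T).toMonoidHom.comp (ρ.comp blk)) hP (fun b => D.quad a b) y
  have hx : ρ (xm (1 : F)) = ρ (blk (up 1)) := by rw [blk_up]
  have hh : ρ (dd ω ω⁻¹) = ρ (blk (dg ω)) := by rw [blk_dg]
  refine ⟨hcyc, fun s h0 h1 => ⟨hx ▸ hfar s h0 h1 _, hh ▸ hfar s h0 h1 _⟩, ?_, ?_, ?_⟩
  · rw [hx, hflip, sw_up, blk_lo]
  · rw [hh, hflip, sw_dg, ← map_inv, ← map_inv, dg_inv]
  · have hcomm : ∀ τ, (τ = tau4 ∨ τ = tau4') → ∀ x y, Commute (ρ (blk x))
        (π (viaA (q4 k) τ) * ρ (blk y) * (π (viaA (q4 k) τ))⁻¹) := by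
      intro τ hτ x y
      rcases hτ with rfl | rfl
      · exact hquad x y
      · rw [show tau4' = tau4 * d4 from Subtype.ext (by decide), map_mul, map_mul,
          _root_.mul_inv_rev, show π (viaA (q4 k) tau4) * π (viaA (q4 k) d4) * ρ (blk y) *
            ((π (viaA (q4 k) d4))⁻¹ * (π (viaA (q4 k) tau4))⁻¹)
          = T * (π (viaA (q4 k) d4) * ρ (blk y) * (π (viaA (q4 k) d4))⁻¹) * T⁻¹ by
            simp only [hT, mul_assoc], hflip]
        exact hquad x _
    intro τ hτ
    rw [hx, hh]
    exact ⟨hcomm τ hτ _ _, hcomm τ hτ _ _, hcomm τ hτ _ _⟩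

variable [Fintype F]

/-- The presentation, with the glueing relations as parameters. -/
theorem hasPres_core (k a : ℕ) (hA : HasPres (alternatingGroup (Fin (k + 4))) 2 a)
    (S1 : List (alternatingGroup (Fin (k + 4)) × Bool × Bool)) (S2 : List Bool)
    (h1 : ∀ r ∈ S1, ∀ i, (r.1 : Perm _) (q2 k i) = q2 k (flp (xor r.2.1 r.2.2) i))
    (hder : ∀ (G : Type) [Group G] (π : alternatingGroup (Fin (k + 4)) →* G) (Q : Bool → G),
      (∀ r ∈ S1, π r.1 * Q r.2.1 * (π r.1)⁻¹ = Q r.2.2) →
      (∀ b ∈ S2, Commute (Q false)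
        (π (viaA (q4 k) tau4) * Q b * (π (viaA (q4 k) tau4))⁻¹)) → Derived π Q) :
    HasPres (Matrix.SpecialLinearGroup (Fin (k + 4)) F) 5
      (13 + a + S1.length + S2.length) := by
  classical
  obtain ⟨p, hch⟩ := CharP.exists F
  have hpf : Fact p.Prime := ⟨CharP.char_is_prime F p⟩
  let : Algebra (ZMod p) F := ZMod.algebra F p
  obtain ⟨ω, hω⟩ := IsCyclic.exists_generator (α := Fˣ)
  have hsp : SpanPowers F ((ω : F) ^ 2) :=
    spanPowers_of_gen fun u => Cfsg.Agent.H99.ShortPres.gen_of_generator (p := p) ω hω u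
  obtain ⟨P, hP⟩ := exists_pair ω hω hsp
  obtain ⟨fT, lT, hlT, hT3, hTgen, hTsat, hTuniv⟩ := exists_three (F := F)
  obtain ⟨fA, RA, hRA, hAgen, hAsat, hAuniv⟩ := hA
  choose wT hwT using fun y => exists_word hTgen y
  choose wA hwA using fun y => exists_word hAgen y
  let iA : FreeGroup (Fin 2) →* FreeGroup (Fin (3 + 2)) :=
    FreeGroup.lift fun i => FreeGroup.of (Fin.natAdd 3 i)
  let WA := fun y => iA (wA y)
  let iT : FreeGroup (Fin 4) →* FreeGroup (Fin (3 + 2)) :=
    FreeGroup.lift (Fin.snoc (fun i : Fin 3 => FreeGroup.of (Fin.castAdd 2 i)) (WA (c0 k)))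
  let WT := fun y => iT (wT y)
  let fb : Fin (3 + 2) → Matrix.SpecialLinearGroup (Fin (k + 4)) F :=
    Fin.append (fun i : Fin 3 => emb k (fT i.castSucc)) (fun i => muA (fA i))
  have lA : ∀ w, FreeGroup.lift fb (iA w) = muA (FreeGroup.lift fA w) := by
    intro w
    refine DFunLike.congr_fun (f := (FreeGroup.lift fb).comp iA)
      (g := (muA : alternatingGroup (Fin (k + 4)) →* _).comp (FreeGroup.lift fA))
      (FreeGroup.ext_hom _ _ fun i => ?_) w
    simp only [MonoidHom.comp_apply, iA, fb, FreeGroup.lift_apply_of, Fin.append_right]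
  have hWA : ∀ y, FreeGroup.lift fb (WA y) = muA y := fun y => by rw [lA, hwA]
  have lT' : ∀ w, FreeGroup.lift fb (iT w) = emb k (FreeGroup.lift fT w) := by
    intro w
    refine DFunLike.congr_fun (f := (FreeGroup.lift fb).comp iT)
      (g := (emb k).comp (FreeGroup.lift fT)) (FreeGroup.ext_hom _ _ fun i => ?_) w
    simp only [MonoidHom.comp_apply, iT, FreeGroup.lift_apply_of]
    induction i using Fin.lastCases with
    | last => rw [Fin.snoc_last, hWA, show (Fin.last 3 : Fin 4) = 3 from rfl, hT3, muA_c0]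
    | cast i => rw [Fin.snoc_castSucc, FreeGroup.lift_apply_of]; exact Fin.append_left _ _ i
  have hWT : ∀ y, FreeGroup.lift fb (WT y) = emb k y := fun y => by rw [lT', hwT]
  let QW := fun b : Bool => WT (blk (fl b P))
  let TW := WA (viaA (q4 k) tau4)
  let l : List (FreeGroup (Fin (3 + 2)) × FreeGroup (Fin (3 + 2))) :=
    lT.map (fun r => (iT r.1, iT r.2)) ++ RA.toList.map (fun r => (iA r, 1)) ++
    S1.map (fun r => (WA r.1 * QW r.2.1 * (WA r.1)⁻¹, QW r.2.2)) ++
    S2.map (fun b => (QW false * (TW * QW b * TW⁻¹), (TW * QW b * TW⁻¹) * QW false))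
  have hlen : l.length ≤ 13 + a + S1.length + S2.length := by
    simp only [l, List.length_append, List.length_map, Finset.length_toList]
    omega
  have hgen : Subgroup.closure (Set.range fb) = ⊤ := by
    refine Linear.eq_top_of_transvection_mem fun i j hij c => ?_
    obtain ⟨s, rfl, rfl⟩ := exists_alt_pair hij
    rw [← FreeGroup.range_lift_eq_closure]
    refine ⟨WA s * WT (xm c) * (WA s)⁻¹, ?_⟩
    rw [map_mul, map_mul, map_inv, hWT, hWA, xm, emb_el, muA_tv]
    rfl
  refine HasPres.of_list l hlen fb hgen ?_ ?_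
  · -- the relations hold in the linear group
    intro r hr
    simp only [l, List.mem_append, List.mem_map, Finset.mem_toList] at hr
    rcases hr with ((⟨s, hs, rfl⟩ | ⟨s, hs, rfl⟩) | ⟨s, hs, rfl⟩) | ⟨b, -, rfl⟩
    · rw [lT', lT', hTsat s hs]
    · rw [lA, hAsat s hs, map_one, map_one]
    · simp only [QW, map_mul, map_inv, hWA, hWT]
      rw [muA_blk k s.1 _ (h1 s hs)]
      congr 2
      rcases s.2.1 with _ | _ <;> rcases s.2.2 with _ | _ <;> simp [fl, sw_sw]
    · simp only [QW, TW, map_mul, map_inv, hWA, hWT]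
      exact (blk_disjoint k _ _).eq
  · intro G _ Ψ hΨ hrel θ hθ
    have hr' : ∀ r ∈ l, Ψ r.1 = Ψ r.2 := hrel
    let gA : Fin 2 → G := fun i => Ψ (iA (FreeGroup.of i))
    have hgA : FreeGroup.lift gA = Ψ.comp iA := FreeGroup.ext_hom _ _ fun i => by simp [gA]
    obtain ⟨π, hπ⟩ := hAuniv G gA fun r hr => by
      have := hr' (iA r, 1) (by
        simp only [l, List.mem_append, List.mem_map, Finset.mem_toList]
        exact Or.inl (Or.inl (Or.inr ⟨r, hr, rfl⟩)))
      rw [hgA]; simpa using this
    have eA : Ψ.comp iA = π.comp (FreeGroup.lift fA) :=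
      FreeGroup.ext_hom _ _ fun i => by simp [hπ, gA]
    have hPA : ∀ y, Ψ (WA y) = π y := fun y => by
      show Ψ.comp iA (wA y) = _
      rw [eA, MonoidHom.comp_apply, hwA]
    let gT : Fin 4 → G := fun i => Ψ (iT (FreeGroup.of i))
    have hgT : FreeGroup.lift gT = Ψ.comp iT := FreeGroup.ext_hom _ _ fun i => by simp [gT]
    have hg3 : gT 3 = π (c0 k) := by
      show Ψ (iT (FreeGroup.of (Fin.last 3))) = _
      simp only [iT, FreeGroup.lift_apply_of, Fin.snoc_last]
      exact hPA _
    obtain ⟨ρ, hρ⟩ := hTuniv G gT (fun r hr => by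
      have := hr' (iT r.1, iT r.2) (by
        simp only [l, List.mem_append, List.mem_map, Finset.mem_toList]
        exact Or.inl (Or.inl (Or.inl ⟨r, hr, rfl⟩)))
      rw [hgT]; exact this) (by
      rw [hg3, ← map_mul, ← map_mul, c0, ← map_mul, ← map_mul,
        show c3 * c3 * c3 = (1 : alternatingGroup (Fin 3)) from Subtype.ext (by decide), map_one,
        map_one])
    have eT : Ψ.comp iT = ρ.comp (FreeGroup.lift fT) :=
      FreeGroup.ext_hom _ _ fun i => by simp [hρ, gT]
    have hPT : ∀ y, Ψ (WT y) = ρ y := fun y => by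
      show Ψ.comp iT (wT y) = _
      rw [eT, MonoidHom.comp_apply, hwT]
    have hθA : θ.comp π = muA := hom_ext_closure hAgen fun i => by
      rw [MonoidHom.comp_apply, hπ]
      show θ.comp Ψ (iA (FreeGroup.of i)) = _
      rw [hθ, lA, FreeGroup.lift_apply_of]
    have hθT : θ.comp ρ = emb k := hom_ext_closure hTgen fun i => by
      rw [MonoidHom.comp_apply, hρ]
      show θ.comp Ψ (iT (FreeGroup.of i)) = _
      rw [hθ, lT', FreeGroup.lift_apply_of]
    have D : Derived π fun b => ρ (blk (fl b P)) := by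
      refine hder G π _ (fun r hr => ?_) fun b hb => ?_
      · have := hr' (WA r.1 * QW r.2.1 * (WA r.1)⁻¹, QW r.2.2) (by
          simp only [l, List.mem_append, List.mem_map]
          exact Or.inl (Or.inr ⟨r, hr, rfl⟩))
        simpa only [QW, map_mul, map_inv, hPA, hPT] using this
      · have := hr' (QW false * (TW * QW b * TW⁻¹), (TW * QW b * TW⁻¹) * QW false) (by
          simp only [l, List.mem_append, List.mem_map]
          exact Or.inr ⟨b, hb, rfl⟩)
        simp only [QW, TW, map_mul, map_inv, hPA, hPT] at this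
        exact this
    have R : GlueRels ρ π ω :=
      glue_of_derived ρ π ω (by rw [← hg3, ← hρ, hT3]) hP D
    have hgenG : ρ.range ⊔ π.range = ⊤ := by
      rw [eq_top_iff]
      intro y hy
      clear hy
      obtain ⟨w, rfl⟩ := hΨ y
      have hw : w ∈ Subgroup.closure (Set.range (FreeGroup.of : Fin (3 + 2) → _)) := by
        rw [FreeGroup.closure_range_of]; trivial
      induction hw using Subgroup.closure_induction with
      | mem x hx =>
        obtain ⟨i, rfl⟩ := hx
        induction i using Fin.addCases with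
        | left i =>
          refine Subgroup.mem_sup_left ⟨fT i.castSucc, ?_⟩
          rw [hρ]; simp [gT, iT]
        | right i =>
          refine Subgroup.mem_sup_right ⟨fA i, ?_⟩
          rw [hπ]; simp [gA, iA]
      | one => rw [map_one]; exact one_mem _
      | mul x y _ _ hx hy => rw [map_mul]; exact mul_mem hx hy
      | inv x _ hx => rw [map_inv]; exact inv_mem hx
    refine (stRels R hsp).injective (k + 4) (by omega) (roots_top R hsp hgenG) θ fun i j hij t => ?_
    obtain ⟨s, rfl, rfl⟩ := exists_alt_pair hij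
    rw [root_eq R hsp, map_mul, map_mul, map_inv, ← MonoidHom.comp_apply, ← MonoidHom.comp_apply,
      hθA, hθT, xm, emb_el, muA_tv]
    rfl

end Core

section Bounds

variable {F : Type*} [Field F] [Fintype F]

theorem hasPres_alt_small (m : ℕ) :
    HasPres (alternatingGroup (Fin (2 + (m + 1)))) 2 (3 + (m + 1) / 2) :=
  ((ShortAlt.hasPres_small_par (Or.inl rfl) m).of_mulEquiv
    (ShortAlt.parCongr ⊥ finSumFinEquiv)).of_mulEquiv (MulEquiv.subgroupCongr (by
      ext c; rw [ShortAlt.mem_parGroup, Subgroup.mem_bot, mem_alternatingGroup]))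

theorem flp_two {k : ℕ} (σ : Perm (Fin (k + 2))) (h : Perm.sign σ = 1) (i : Fin 2) :
    (tw k σ : Perm (Fin (k + 4))) (q2 k i) = q2 k (flp false i) := by
  rw [tw_inl, h]; rfl

theorem flp_d4 (k : ℕ) (i : Fin 2) :
    (viaA (q4 k) d4 : Perm (Fin (k + 4))) (q2 k i) = q2 k (flp true i) := by
  rw [← tw_swap, tw_inl, sign_swap (by simp)]; rfl

/-- From six coordinates on. -/
theorem hasPres_big (k : ℕ) (hk : 2 ≤ k) :
    HasPres (Matrix.SpecialLinearGroup (Fin (k + 4)) F) 5 23 := by
  obtain ⟨w, hws, hwgen⟩ := exists_perm_gens k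
  refine hasPres_core k 6 (ShortAlt.hasPres_alt _)
    [(viaA (q4 k) d4, false, true), (tw k w, false, false), (tw k w, true, true)] [false] ?_ ?_
  · intro r hr i
    simp only [List.mem_cons, List.not_mem_nil, or_false] at hr
    rcases hr with rfl | rfl | rfl
    · exact flp_d4 k i
    · exact flp_two w hws i
    · exact flp_two w hws i
  · intro G _ π Q hS1 hS2
    simp only [List.forall_mem_cons, List.not_mem_nil, IsEmpty.forall_iff, implies_true,
      and_true] at hS1 hS2
    obtain ⟨hd, hw0, hw1⟩ := hS1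
    have hst := stab_all π Q hws hwgen hd (fun b => by cases b <;> assumption)
    refine derived_of_stab π Q hst ?_
    set T := π (viaA (q4 k) tau4) with hT
    set s := π (tw k (swap ⟨2, by omega⟩ ⟨3, by omega⟩)) with hs
    have hsb : ∀ b, s * Q b * s⁻¹ = Q !b := fun b => by
      rw [hs, hst, sign_swap (by simp), if_neg (by decide)]
    have hTT : T * T = 1 := by
      rw [hT, ← map_mul, ← map_mul,
        show tau4 * tau4 = (1 : alternatingGroup (Fin 4)) from Subtype.ext (by decide), map_one,
        map_one]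
    have hsT : s * T * s⁻¹ = T * π (viaA (q4 k) d4) := by
      rw [hs, hT, ← map_inv, ← map_mul, ← map_mul, tw_conj_tau k hk, map_mul]
    have hstep : ∀ a b, Commute (Q a) (T * Q b * T⁻¹) → Commute (Q !a) (T * Q b * T⁻¹) := by
      intro a b h
      have h' := h.map (MulAut.conj s).toMonoidHom
      simp only [MulEquiv.toMonoidHom_eq_coe, MonoidHom.coe_coe, MulAut.conj_apply] at h'
      rw [hsb] at h'
      have hdb : π (viaA (q4 k) d4) * Q (!b) * (π (viaA (q4 k) d4))⁻¹ = Q b := by
        rw [← tw_swap, hst, sign_swap (by simp), if_neg (by decide), Bool.not_not]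
      rw [show s * (T * Q b * T⁻¹) * s⁻¹ = (s * T * s⁻¹) * (s * Q b * s⁻¹) * (s * T * s⁻¹)⁻¹ by
        group, hsT, hsb, _root_.mul_inv_rev,
        show T * π (viaA (q4 k) d4) * Q (!b) * ((π (viaA (q4 k) d4))⁻¹ * T⁻¹)
          = T * (π (viaA (q4 k) d4) * Q (!b) * (π (viaA (q4 k) d4))⁻¹) * T⁻¹ by group, hdb] at h'
      exact h'
    have hsym : ∀ a b, Commute (Q a) (T * Q b * T⁻¹) → Commute (Q b) (T * Q a * T⁻¹) := by
      intro a b h
      have h' := (h.map (MulAut.conj T).toMonoidHom).symm
      simp only [MulEquiv.toMonoidHom_eq_coe, MonoidHom.coe_coe, MulAut.conj_apply] at h'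
      rw [show T * (T * Q b * T⁻¹) * T⁻¹ = (T * T) * Q b * (T * T)⁻¹ by group, hTT, one_mul,
        inv_one, mul_one] at h'
      exact h'
    have h10 := hstep false false hS2
    have h01 := hsym _ _ h10
    intro a b
    cases a <;> cases b
    · exact hS2
    · exact h01
    · exact h10
    · exact hstep false true h01

theorem quad_small {k : ℕ} {G : Type*} [Group G] (π : alternatingGroup (Fin (k + 4)) →* G)
    (Q : Bool → G)
    (hflip : ∀ b, π (viaA (q4 k) d4) * Q b * (π (viaA (q4 k) d4))⁻¹ = Q !b)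
    (h : ∀ b, Commute (Q false) (π (viaA (q4 k) tau4) * Q b * (π (viaA (q4 k) tau4))⁻¹))
    (a b : Bool) : Commute (Q a) (π (viaA (q4 k) tau4) * Q b * (π (viaA (q4 k) tau4))⁻¹) := by
  cases a
  · exact h b
  set T := π (viaA (q4 k) tau4)
  set d := π (viaA (q4 k) d4)
  have hdT : d * T = T * d := by
    simp only [d, T, ← map_mul]
    rw [show d4 * tau4 = tau4 * d4 from Subtype.ext (by decide)]
  have h' := (h !b).map (MulAut.conj d).toMonoidHom
  simp only [MulEquiv.toMonoidHom_eq_coe, MonoidHom.coe_coe, MulAut.conj_apply] at h'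
  rw [hflip, show d * (T * Q (!b) * T⁻¹) * d⁻¹ = (d * T) * Q (!b) * (d * T)⁻¹ by group, hdT,
    show T * d * Q (!b) * (T * d)⁻¹ = T * (d * Q (!b) * d⁻¹) * T⁻¹ by group, hflip,
    Bool.not_not] at h'
  exact h'

/-- Four coordinates. -/
theorem hasPres_four : HasPres (Matrix.SpecialLinearGroup (Fin (0 + 4)) F) 5 20 := by
  refine hasPres_core 0 4 (hasPres_alt_small 1)
    [(viaA (q4 0) d4, false, true)] [false, true] ?_ ?_
  · intro r hr i
    simp only [List.mem_cons, List.not_mem_nil, or_false] at hr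
    subst hr
    exact flp_d4 0 i
  · intro G _ π Q hS1 hS2
    simp only [List.forall_mem_cons, List.not_mem_nil, IsEmpty.forall_iff, implies_true,
      and_true] at hS1 hS2
    have hgen : Subgroup.closure ({swap 0 1, 1} : Set (Perm (Fin (0 + 2)))) = ⊤ := by
      rw [eq_top_iff]
      intro σ hσ
      clear hσ
      have hall : ∀ τ : Perm (Fin (0 + 2)), τ = swap 0 1 ∨ τ = 1 := by decide
      exact Subgroup.subset_closure (hall σ)
    have hst := stab_all π Q (map_one _) hgen hS1 (fun b => by simp)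
    refine derived_of_stab π Q hst (quad_small π Q (fun b => ?_) fun b => ?_)
    · rw [← tw_swap, hst, sign_swap (by simp), if_neg (by decide)]
    · cases b
      · exact hS2.1
      · exact hS2.2

/-- Five coordinates. -/
theorem hasPres_five : HasPres (Matrix.SpecialLinearGroup (Fin (1 + 4)) F) 5 21 := by
  have hws : Perm.sign (finRotate 3 : Perm (Fin (1 + 2))) = 1 := by decide
  have hgen : Subgroup.closure ({swap 0 1, finRotate 3} : Set (Perm (Fin (1 + 2)))) = ⊤ := by
    have h := closure_cycle_adjacent_swap (isCycle_finRotate (n := 1)) support_finRotate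
      (0 : Fin 3)
    rw [finRotate_apply, zero_add, Set.pair_comm] at h
    exact h
  refine hasPres_core 1 4 (hasPres_alt_small 2)
    [(viaA (q4 1) d4, false, true), (tw 1 (finRotate 3), false, false)] [false, true] ?_ ?_
  · intro r hr i
    simp only [List.mem_cons, List.not_mem_nil, or_false] at hr
    rcases hr with rfl | rfl
    · exact flp_d4 1 i
    · exact flp_two _ hws i
  · intro G _ π Q hS1 hS2
    simp only [List.forall_mem_cons, List.not_mem_nil, IsEmpty.forall_iff, implies_true,
      and_true] at hS1 hS2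
    obtain ⟨hd, hw0⟩ := hS1
    have hw : ∀ b, π (tw 1 (finRotate 3)) * Q b * (π (tw 1 (finRotate 3)))⁻¹ = Q b := by
      intro b
      cases b
      · exact hw0
      set d := π (viaA (q4 1) d4)
      set W := π (tw 1 (finRotate 3))
      have hWd : d * W * d⁻¹ = W⁻¹ := by
        simp only [d, W, ← tw_swap, ← map_inv, ← map_mul]
        have e3 : swap 0 1 * (finRotate 3 : Perm (Fin (1 + 2))) * (swap 0 1)⁻¹
            = (finRotate 3 : Perm (Fin (1 + 2)))⁻¹ := by decide
        exact congrArg (fun σ => π (tw 1 σ)) e3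
      have e : W⁻¹ * Q true * W = Q true :=
        calc W⁻¹ * Q true * W = (d * W * d⁻¹) * (d * Q false * d⁻¹) * (d * W * d⁻¹)⁻¹ := by
              rw [hWd, hd, inv_inv]
          _ = d * (W * Q false * W⁻¹) * d⁻¹ := by group
          _ = Q true := by rw [hw0, hd]
      calc W * Q true * W⁻¹ = W * (W⁻¹ * Q true * W) * W⁻¹ := by rw [e]
        _ = Q true := by group
    have hst := stab_all π Q hws hgen hd hw
    refine derived_of_stab π Q hst (quad_small π Q (fun b => ?_) fun b => ?_)
    · rw [← tw_swap, hst, sign_swap (by simp), if_neg (by decide)]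
    · cases b
      · exact hS2.1
      · exact hS2.2

/-- Five generators and at most twenty-three relations. -/
theorem hasPres_SL {n : ℕ} (hn : 4 ≤ n) :
    HasPres (Matrix.SpecialLinearGroup (Fin n) F) 5 23 := by
  obtain ⟨k, rfl⟩ : ∃ k, n = k + 4 := ⟨n - 4, by omega⟩
  rcases k with _ | _ | k
  · exact hasPres_four.mono (by norm_num)
  · exact hasPres_five.mono (by norm_num)
  · exact hasPres_big _ (by omega)

end Bounds

end Cfsg.Agent.H68.ShortSL
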